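import Mathlib

set_option autoImplicit false
set_option linter.unusedSectionVars false
set_option linter.unusedVariables false
set_option linter.unusedSimpArgs false
set_option linter.style.haveILetI false
set_option maxHeartbeats 400000

/-!
# Matrices with a block of zeros over a domain; bounded quadratic functions
-/

namespace Groth.Agent.Lib.Helper6.HBurch

open Matrix

section Mat

variable {R : Type*} [CommRing R] [IsDomain R]
variable {l m n C : Type*} [Fintype l] [Fintype m] [Fintype n] [Fintype C] [DecidableEq C]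

/-- a block of zeros and a vanishing complementary minor give a kernel vector -/
theorem exists_ker_of_det_eq_zero (Ψ : Matrix m n R) (r : C → m) (c : C → n)
    (hc : Function.Injective c)
    (hz : ∀ p, (∀ j, r j ≠ p) → ∀ j, Ψ p (c j) = 0)
    (hdet : (Ψ.submatrix r c).det = 0) : ∃ w : n → R, w ≠ 0 ∧ Ψ *ᵥ w = 0 := by
  classical
  obtain ⟨v, hv, hv0⟩ := Matrix.exists_mulVec_eq_zero_iff.mpr hdet
  refine ⟨Function.extend c v 0, ?_, ?_⟩
  · intro h0
    apply hv
    funext j
    have := congrFun h0 (c j)
    rwa [hc.extend_apply] at this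
  · funext p
    have hsum : ∑ q, Ψ p q * Function.extend c v 0 q = ∑ j : C, Ψ p (c j) * v j := by
      symm
      apply Fintype.sum_of_injective c hc
      · intro q hq
        rw [Function.extend_apply' _ _ _ (by simpa using hq)]
        simp
      · intro j
        rw [hc.extend_apply]
    show ∑ q, Ψ p q * Function.extend c v 0 q = 0
    rw [hsum]
    by_cases hp : ∃ j₀, r j₀ = p
    · obtain ⟨j₀, rfl⟩ := hp
      have := congrFun hv0 j₀
      exact this
    · push Not at hp
      apply Finset.sum_eq_zero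
      intro j _
      rw [hz p hp j, zero_mul]

/-- a block of zeros and a nonvanishing complementary minor kill columns of a left annihilator -/
theorem col_zero_of_det_ne_zero (D : Matrix l m R) (Ψ : Matrix m n R) (hD : D * Ψ = 0)
    (r : C → m) (c : C → n) (hr : Function.Injective r)
    (hz : ∀ p, (∀ j, r j ≠ p) → ∀ j, Ψ p (c j) = 0)
    (hdet : (Ψ.submatrix r c).det ≠ 0) (a : l) (j : C) : D a (r j) = 0 := by
  classical
  have hu : (fun j => D a (r j)) ᵥ* (Ψ.submatrix r c) = 0 := by
    funext j'
    show ∑ j, D a (r j) * Ψ (r j) (c j') = 0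
    have h2 : ∑ j, D a (r j) * Ψ (r j) (c j') = ∑ p, D a p * Ψ p (c j') := by
      apply Fintype.sum_of_injective r hr
      · intro p hp
        rw [hz p (by intro j hj; exact hp ⟨j, hj⟩) j', mul_zero]
      · intro j
        rfl
    rw [h2]
    have := congrFun (congrFun hD a) (c j')
    rw [Matrix.mul_apply] at this
    exact this
  have := Matrix.eq_zero_of_vecMul_eq_zero hdet hu
  exact congrFun this j

end Mat

section Num

/-- a bounded arithmetic progression is constant -/
theorem lin_bounded (c u0 K : ℤ) (h : ∀ n : ℕ, -K ≤ u0 + n * c ∧ u0 + n * c ≤ K) : c = 0 := by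
  by_contra hc
  rcases lt_or_gt_of_ne hc with hneg | hpos
  · obtain ⟨h1, _⟩ := h ((K + u0).toNat + 1)
    have h2 := Int.self_le_toNat (K + u0)
    push_cast at h1
    have h3 : (((K + u0).toNat : ℤ) + 1) * c ≤ -(((K + u0).toNat : ℤ) + 1) := by nlinarith
    linarith
  · obtain ⟨_, h1⟩ := h ((K - u0).toNat + 1)
    have h2 := Int.self_le_toNat (K - u0)
    push_cast at h1
    have h3 : (((K - u0).toNat : ℤ) + 1) ≤ (((K - u0).toNat : ℤ) + 1) * c := by nlinarith
    linarith

/-- a quadratic function bounded on a half line is constant -/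
theorem quad_bounded (A B C₀ D₀ K : ℤ)
    (h : ∀ d : ℤ, D₀ ≤ d → 0 ≤ A * d * d + B * d + C₀ ∧ A * d * d + B * d + C₀ ≤ K) :
    A = 0 ∧ B = 0 := by
  have hA : 2 * A = 0 := by
    apply lin_bounded (2 * A) (A * (2 * D₀ + 1) + B) K
    intro n
    have h1 := h (D₀ + n) (by omega)
    have h2 := h (D₀ + n + 1) (by omega)
    have e : A * (D₀ + n + 1) * (D₀ + n + 1) + B * (D₀ + n + 1) + C₀
        - (A * (D₀ + n) * (D₀ + n) + B * (D₀ + n) + C₀)
        = A * (2 * D₀ + 1) + B + n * (2 * A) := by ring
    constructor <;> linarith [h1.1, h1.2, h2.1, h2.2]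
  have hA0 : A = 0 := by omega
  refine ⟨hA0, ?_⟩
  subst hA0
  apply lin_bounded B (B * D₀ + C₀) K
  intro n
  have h1 := h (D₀ + n) (by omega)
  have e : 0 * (D₀ + n) * (D₀ + n) + B * (D₀ + n) + C₀ = B * D₀ + C₀ + n * B := by ring
  rw [e] at h1
  constructor <;> linarith [h1.1, h1.2]

/-- expanding a sum of shifted quadratics -/
theorem sum_quad {ι : Type*} [Fintype ι] (s : ι → ℤ) (d : ℤ) :
    ∑ j, (d - s j + 2) * (d - s j + 1) =
      (Fintype.card ι : ℤ) * d * d + (3 * (Fintype.card ι : ℤ) - 2 * ∑ j, s j) * d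
        + ∑ j, (s j * s j - 3 * s j + 2) := by
  have h : ∀ j, (d - s j + 2) * (d - s j + 1) =
      d * d + (3 * d - 2 * d * s j) + (s j * s j - 3 * s j + 2) := fun j => by ring
  simp_rw [h]
  rw [Finset.sum_add_distrib, Finset.sum_add_distrib, Finset.sum_sub_distrib,
    ← Finset.mul_sum Finset.univ s (2 * d)]
  simp only [Finset.sum_const, Finset.card_univ, nsmul_eq_mul]
  ring

/-- twice a binomial coefficient -/
theorem two_mul_choose (x : ℤ) (hx : 0 ≤ x) :
    2 * ((Nat.choose (2 + x.toNat) 2 : ℕ) : ℤ) = (x + 2) * (x + 1) := by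
  obtain ⟨n, rfl⟩ := Int.eq_ofNat_of_zero_le hx
  simp only [Int.toNat_natCast]
  have key : ∀ n : ℕ, 2 * Nat.choose (2 + n) 2 = (n + 2) * (n + 1) := by
    intro n
    induction n with
    | zero => simp
    | succ n ih =>
      have e : 2 + (n + 1) = (n + 2) + 1 := by omega
      have e2 : n + 2 = 2 + n := by omega
      rw [e, Nat.choose_succ_succ' (n + 2) 1, Nat.choose_one_right, mul_add, e2, ih]
      ring
  exact_mod_cast key n

end Num

end Groth.Agent.Lib.Helper6.HBurch
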