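import Mathlib
import Groth.Prelude.Def_GrLC
import Groth.Prelude.Def_GrSyz
import Groth.Agent.Lib.Helper9.GrMod.Unique
import Groth.Agent.Lib.Helper6.HilbDim.HDb
import Groth.Agent.Lib.Helper6.CMReg.CRt
import Groth.Agent.Lib.Helper6.HBurch.HBa

set_option autoImplicit false
set_option linter.unusedSectionVars false
set_option linter.unusedVariables false
set_option linter.unusedSimpArgs false
set_option linter.style.haveILetI false
set_option maxHeartbeats 400000

/-!
# Degree inequalities in a minimal resolution `0 → F₂ → F₁ → F₀` with `rk F₁ = rk F₂ + 1`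
-/

universe u

namespace Groth.Agent.Lib.Helper6.HBurch

open Matrix

variable (k : Type u) [Field k] (n : ℕ)

/-- a homogeneous element of degree `≤ 0` of the irrelevant ideal vanishes -/
theorem entry_zero (x : MvPolynomial (Fin n) k) (e : ℤ) (he : e ≤ 0)
    (hx : x ∈ GrSyz.stdGr k (Fin n) e)
    (hm : x ∈ (GrSyz.irrel (GrSyz.stdGr k (Fin n))).toIdeal) : x = 0 := by
  rcases he.lt_or_eq with h | h
  · rw [Groth.Agent.Lib.Helper6.HilbDim.stdGr_neg k (Fin n) e h] at hx
    exact (Submodule.mem_bot k).mp hx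
  · subst h
    rw [Groth.Agent.Helper9.GrMod.mem_irrel_iff] at hm
    rw [Groth.Agent.Lib.Helper6.CMReg.eq_C_of_mem_zero k n x hx]
    have : MvPolynomial.coeff 0 x = 0 := hm
    rw [this, map_zero]

/-- one is not in the irrelevant ideal -/
theorem one_notMem_irrel :
    (1 : MvPolynomial (Fin n) k) ∉ (GrSyz.irrel (GrSyz.stdGr k (Fin n))).toIdeal := by
  rw [Groth.Agent.Helper9.GrMod.mem_irrel_iff, map_one]
  exact one_ne_zero

variable {M : Type u} [AddCommGroup M] [Module k M] [Module (MvPolynomial (Fin n) k) M]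
  [IsScalarTower k (MvPolynomial (Fin n) k) M]
  (ℳ : ℤ → Submodule k M) [DirectSum.Decomposition ℳ]
  [SetLike.GradedSMul (GrSyz.stdGr k (Fin n)) ℳ]
  (F : GrSyz.FreeRes (GrSyz.stdGr k (Fin n)) ℳ)

/-- in a resolution of length at most two the second differential is injective -/
theorem d1_ker (hlen : F.HasLengthLE 2) (w : Fin (F.rk 2) → MvPolynomial (Fin n) k)
    (hw : F.d 1 *ᵥ w = 0) : w = 0 := by
  have h3 : F.rk (1 + 1 + 1) = 0 := hlen 3 (by norm_num)
  have hmem : w ∈ LinearMap.ker (Matrix.mulVecLin (F.d 1)) := by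
    rw [LinearMap.mem_ker, Matrix.mulVecLin_apply]
    exact hw
  rw [F.exact_succ 1] at hmem
  obtain ⟨v, hv⟩ := hmem
  have hv0 : v = 0 := by
    funext x
    exfalso
    have := x.2
    omega
  rw [← hv, hv0, map_zero]

/-- the product of two consecutive differentials vanishes -/
theorem d0_mul_d1 : F.d 0 * F.d 1 = 0 := by
  classical
  apply Matrix.ext
  intro a b
  have hmem : Matrix.mulVecLin (F.d 1) (Pi.single b 1) ∈ LinearMap.ker (Matrix.mulVecLin (F.d 0)) := by
    rw [F.exact_succ 0]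
    exact ⟨_, rfl⟩
  rw [LinearMap.mem_ker, Matrix.mulVecLin_apply, Matrix.mulVecLin_apply, Matrix.mulVec_mulVec,
    Matrix.mulVec_single_one] at hmem
  exact congrFun hmem a

/-- a basis vector of `F₁` is not killed by the first differential of a minimal resolution -/
theorem d0_col_ne_zero (hF : F.IsMinimal (GrSyz.irrel (GrSyz.stdGr k (Fin n))).toIdeal)
    (p₀ : Fin (F.rk 1)) (h0 : ∀ a, F.d 0 a p₀ = 0) : False := by
  classical
  have hmem : (Pi.single p₀ 1 : Fin (F.rk 1) → MvPolynomial (Fin n) k) ∈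
      LinearMap.ker (Matrix.mulVecLin (F.d 0)) := by
    rw [LinearMap.mem_ker, Matrix.mulVecLin_apply, Matrix.mulVec_single_one]
    funext a
    exact h0 a
  rw [F.exact_succ 0] at hmem
  obtain ⟨w, hw⟩ := hmem
  rw [Matrix.mulVecLin_apply] at hw
  have h1 := congrFun hw p₀
  rw [Pi.single_eq_same] at h1
  apply one_notMem_irrel k n
  rw [← h1]
  show ∑ q, F.d 1 p₀ q * w q ∈ _
  apply Ideal.sum_mem
  intro q _
  exact Ideal.mul_mem_right _ _ (hF 1 p₀ q)

/-- the degree inequalities -/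
theorem deg_ineq (hF : F.IsMinimal (GrSyz.irrel (GrSyz.stdGr k (Fin n))).toIdeal)
    (hlen : F.HasLengthLE 2) (t : ℕ) (h1 : F.rk 1 = t + 1) (h2 : F.rk 2 = t)
    (ha : ∀ i j : Fin (t + 1), i ≤ j → F.deg 1 (Fin.cast h1.symm j) ≤ F.deg 1 (Fin.cast h1.symm i))
    (hb : ∀ i j : Fin t, i ≤ j → F.deg 2 (Fin.cast h2.symm j) ≤ F.deg 2 (Fin.cast h2.symm i))
    (i : Fin t) :
    1 ≤ F.deg 2 (Fin.cast h2.symm i) - F.deg 1 (Fin.cast h1.symm i.castSucc) ∧
      1 ≤ F.deg 2 (Fin.cast h2.symm i) - F.deg 1 (Fin.cast h1.symm i.succ) := by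
  classical
  -- the index maps
  let r : {q : Fin t // i ≤ q} → Fin (F.rk 1) := fun j => Fin.cast h1.symm j.1.succ
  let c : {q : Fin t // i ≤ q} → Fin (F.rk 2) := fun j => Fin.cast h2.symm j.1
  have hr : Function.Injective r := by
    intro j j' h
    have h' : (j.1.succ : Fin (t + 1)) = j'.1.succ := Fin.cast_injective _ h
    exact Subtype.ext (Fin.succ_injective _ h')
  have hc : Function.Injective c := by
    intro j j' h
    exact Subtype.ext (Fin.cast_injective _ h)
  -- rows outside the range of `r`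
  have K1 : ∀ p : Fin (F.rk 1), (∀ j, r j ≠ p) → (p : ℕ) ≤ (i : ℕ) := by
    intro p hp
    by_contra hlt
    have hpt : (p : ℕ) < t + 1 := by
      have := p.2
      omega
    have hq : (p : ℕ) - 1 < t := by omega
    apply hp ⟨⟨(p : ℕ) - 1, hq⟩, by
      rw [Fin.le_def]
      show (i : ℕ) ≤ (p : ℕ) - 1
      omega⟩
    apply Fin.ext
    show (p : ℕ) - 1 + 1 = (p : ℕ)
    omega
  -- vanishing of the entries in the block
  have K2 : ∀ s : Fin (t + 1), F.deg 2 (Fin.cast h2.symm i) ≤ F.deg 1 (Fin.cast h1.symm s) →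
      ∀ p : Fin (F.rk 1), (p : ℕ) ≤ (s : ℕ) → ∀ j, F.d 1 p (c j) = 0 := by
    intro s hs p hp j
    have hp' : p = Fin.cast h1.symm (Fin.cast h1 p) := by
      apply Fin.ext
      rfl
    have h3 : F.deg 1 (Fin.cast h1.symm s) ≤ F.deg 1 p := by
      rw [hp']
      apply ha
      rw [Fin.le_def]
      exact hp
    have h4 : F.deg 2 (c j) ≤ F.deg 2 (Fin.cast h2.symm i) := hb i j.1 j.2
    exact entry_zero k n _ (F.deg 2 (c j) - F.deg 1 p) (by omega) (F.d_mem 1 p (c j)) (hF 1 p (c j))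
  have j₀ : {q : Fin t // i ≤ q} := ⟨i, le_refl i⟩
  constructor
  · by_contra hneg
    have hs : F.deg 2 (Fin.cast h2.symm i) ≤ F.deg 1 (Fin.cast h1.symm i.castSucc) := by omega
    have hz : ∀ p, (∀ j, r j ≠ p) → ∀ j, F.d 1 p (c j) = 0 := by
      intro p hp j
      exact K2 i.castSucc hs p (K1 p hp) j
    by_cases hdet : ((F.d 1).submatrix r c).det = 0
    · obtain ⟨w, hw, hw0⟩ := exists_ker_of_det_eq_zero (F.d 1) r c hc hz hdet
      exact hw (d1_ker k n ℳ F hlen w hw0)
    · have hcol := col_zero_of_det_ne_zero (F.d 0) (F.d 1) (d0_mul_d1 k n ℳ F) r c hr hz hdet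
      exact d0_col_ne_zero k n ℳ F hF (r j₀) (fun a => hcol a j₀)
  · by_contra hneg
    have hs : F.deg 2 (Fin.cast h2.symm i) ≤ F.deg 1 (Fin.cast h1.symm i.succ) := by omega
    have hz : ∀ p, (∀ j, r j ≠ p) → ∀ j, F.d 1 p (c j) = 0 := by
      intro p hp j
      refine K2 i.succ hs p ?_ j
      have := K1 p hp
      show (p : ℕ) ≤ (i : ℕ) + 1
      omega
    have hdet : ((F.d 1).submatrix r c).det = 0 := by
      apply Matrix.det_eq_zero_of_row_eq_zero ⟨i, le_refl i⟩
      intro j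
      show F.d 1 (Fin.cast h1.symm i.succ) (c j) = 0
      exact K2 i.succ hs _ (le_refl _) j
    obtain ⟨w, hw, hw0⟩ := exists_ker_of_det_eq_zero (F.d 1) r c hc hz hdet
    exact hw (d1_ker k n ℳ F hlen w hw0)

end Groth.Agent.Lib.Helper6.HBurch
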