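import Mathlib
import Groth.Prelude.Def_GrLC
import Groth.Prelude.Def_GrSyz
import Groth.Agent.Lib.Helper9.GrLC.Trans
import Groth.Agent.Lib.Helper9.GrLC.Basic
import Groth.Agent.Lib.Helper6.HilbDim.HDb
import Groth.Agent.Lib.Helper6.CMReg.CRs
import Groth.Agent.Lib.Helper6.HBurch.HBa
import Groth.Agent.S15428

set_option autoImplicit false
set_option linter.unusedSectionVars false
set_option linter.unusedVariables false
set_option linter.unusedSimpArgs false
set_option linter.style.haveILetI false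
set_option maxHeartbeats 400000

/-!
# The Hilbert function of a finite set of points is bounded; consequences for a resolution
-/

universe u

namespace Groth.Agent.Lib.Helper6.HBurch

open DirectSum Groth.Agent.Helper9.GrLCLib Groth.Agent.Lib.Helper6.CMReg

variable (k : Type u) [Field k]

section Points

variable (Z : Finset (Fin 3 → k)) (I : Ideal (MvPolynomial (Fin 3) k))
  (hI : ∀ f : MvPolynomial (Fin 3) k, f ∈ I ↔
      ∀ p ∈ Z, ∀ j : ℕ, MvPolynomial.eval p (MvPolynomial.homogeneousComponent j f) = 0)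

include hI in
/-- the vanishing ideal of a nonempty set is proper -/
theorem one_notMem (hZne : Z.Nonempty) : (1 : MvPolynomial (Fin 3) k) ∉ I := by
  intro h
  obtain ⟨p, hp⟩ := hZne
  have := (hI 1).mp h p hp 0
  rw [MvPolynomial.homogeneousComponent_zero, MvPolynomial.eval_C] at this
  simp at this

include hI in
/-- membership of a form in the vanishing ideal -/
theorem mem_iff_of_homogeneous (m : ℕ) (f : MvPolynomial (Fin 3) k)
    (hf : f ∈ GrSyz.stdGr k (Fin 3) (m : ℤ)) :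
    f ∈ I ↔ ∀ p ∈ Z, MvPolynomial.eval p f = 0 := by
  have hf' := (Groth.Agent.Lib.Helper6.HilbDim.mem_stdGr_nat k (Fin 3) m f).mp hf
  rw [hI]
  constructor
  · intro h p hp
    have := h p hp m
    rwa [MvPolynomial.homogeneousComponent_of_mem hf', if_pos rfl] at this
  · intro h p hp j
    rw [MvPolynomial.homogeneousComponent_of_mem hf']
    split_ifs
    · exact h p hp
    · simp

variable {M : Type u} [AddCommGroup M] [Module k M] [Module (MvPolynomial (Fin 3) k) M]
  [IsScalarTower k (MvPolynomial (Fin 3) k) M]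
  (ℳ : ℤ → Submodule k M) [DirectSum.Decomposition ℳ]
  [SetLike.GradedSMul (GrSyz.stdGr k (Fin 3)) ℳ]
  (π : MvPolynomial (Fin 3) k →ₗ[MvPolynomial (Fin 3) k] M) (hπ : Function.Surjective π)
  (hπg : GrLC.IsGrHom (GrSyz.stdGr k (Fin 3)) ℳ π) (hker : LinearMap.ker π = I)

include hI hπ hπg hker in
/-- the Hilbert function of a set of points is bounded by the number of points -/
theorem finrank_piece_le (m : ℕ) : Module.finrank k (ℳ (m : ℤ)) ≤ Z.card := by
  classical
  let φ : GrSyz.stdGr k (Fin 3) (m : ℤ) →ₗ[k] ℳ (m : ℤ) :=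
    (π.restrictScalars k).restrict (fun x hx => hπg m x hx)
  have hφ : Function.Surjective φ := by
    rintro ⟨y, hy⟩
    obtain ⟨s, hs, hsy⟩ := exists_mem_of_surjective_isGrHom (Trans.toAG (GrSyz.stdGr k (Fin 3)))
      (Trans.toAG ℳ) π hπ hπg m y hy
    exact ⟨⟨s, hs⟩, Subtype.ext hsy⟩
  let ev : GrSyz.stdGr k (Fin 3) (m : ℤ) →ₗ[k] (Z → k) :=
    LinearMap.pi (fun p => (MvPolynomial.aeval (p.1 : Fin 3 → k)).toLinearMap ∘ₗ
      (GrSyz.stdGr k (Fin 3) (m : ℤ)).subtype)
  have hev : ∀ x p, ev x p = MvPolynomial.eval p.1 x.1 := by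
    intro x p
    show MvPolynomial.aeval (p.1 : Fin 3 → k) x.1 = _
    rw [MvPolynomial.aeval_eq_eval]
  have hker' : LinearMap.ker φ = LinearMap.ker ev := by
    ext x
    rw [LinearMap.mem_ker, LinearMap.mem_ker]
    have h1 : φ x = 0 ↔ x.1 ∈ I := by
      rw [← hker, LinearMap.mem_ker]
      constructor
      · intro h
        exact congrArg Subtype.val h
      · intro h
        exact Subtype.ext h
    rw [h1, mem_iff_of_homogeneous k Z I hI m x.1 x.2]
    constructor
    · intro h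
      funext p
      rw [hev]
      exact h p.1 p.2
    · intro h p hp
      have := congrFun h ⟨p, hp⟩
      rwa [hev] at this
  let ψ : ℳ (m : ℤ) →ₗ[k] (Z → k) :=
    ((LinearMap.ker φ).liftQ ev (le_of_eq hker')) ∘ₗ
      (φ.quotKerEquivOfSurjective hφ).symm.toLinearMap
  have hψ : Function.Injective ψ := by
    have h1 : Function.Injective ((LinearMap.ker φ).liftQ ev (le_of_eq hker')) := by
      rw [← LinearMap.ker_eq_bot]
      exact Submodule.ker_liftQ_eq_bot _ _ _ (le_of_eq hker'.symm)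
    exact h1.comp (LinearEquiv.injective _)
  have := LinearMap.finrank_le_finrank_of_injective hψ
  rw [Module.finrank_fintype_fun_eq_card, Fintype.card_coe] at this
  exact this

variable (F : GrSyz.FreeRes (GrSyz.stdGr k (Fin 3)) ℳ)

include hπ hπg hker in
/-- a single generator of the cyclic module `S/I` sits in degree zero -/
theorem deg_zero_eq (h1I : (1 : MvPolynomial (Fin 3) k) ∉ I) (h0 : F.rk 0 = 1)
    (b : Fin (F.rk 0)) : F.deg 0 b = 0 := by
  classical
  have hg : F.aug b ∈ ℳ (F.deg 0 b) := F.aug_mem b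
  have hsub : ∀ b' : Fin (F.rk 0), b' = b := by
    intro b'
    apply Fin.ext
    have := b'.2
    have := b.2
    omega
  have hπ1 : π 1 ≠ 0 := by
    intro h
    apply h1I
    rw [← hker]
    exact h
  obtain ⟨v, hv⟩ := F.aug_surjective (π 1)
  have hv' : v b • F.aug b = π 1 := by
    rw [← hv, Fintype.linearCombination_apply]
    symm
    apply Fintype.sum_eq_single b
    intro b' hb'
    exact absurd (hsub b') hb'
  have hπ1mem : π 1 ∈ ℳ 0 :=
    hπg 0 1 (SetLike.GradedOne.one_mem (A := GrSyz.stdGr k (Fin 3)))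
  rcases lt_trichotomy (F.deg 0 b) 0 with hc | hc | hc
  · exfalso
    obtain ⟨s, hs, hsg⟩ := exists_mem_of_surjective_isGrHom (Trans.toAG (GrSyz.stdGr k (Fin 3)))
      (Trans.toAG ℳ) π hπ hπg (F.deg 0 b) (F.aug b) hg
    have hs' : s ∈ GrSyz.stdGr k (Fin 3) (F.deg 0 b) := hs
    rw [Groth.Agent.Lib.Helper6.HilbDim.stdGr_neg k (Fin 3) _ hc] at hs'
    have hs0 : s = 0 := (Submodule.mem_bot k).mp hs'
    apply hπ1
    rw [← hv', ← hsg, hs0, map_zero, smul_zero]
  · exact hc
  · exfalso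
    have h2 := proj_smul_of_mem_right' (Trans.toAG (GrSyz.stdGr k (Fin 3))) (Trans.toAG ℳ)
      (x := F.aug b) hg (v b) 0
    have hmem : ((decompose (Trans.toAG (GrSyz.stdGr k (Fin 3))) (v b) (0 - F.deg 0 b) :
        Trans.toAG (GrSyz.stdGr k (Fin 3)) (0 - F.deg 0 b)) : MvPolynomial (Fin 3) k) ∈
        GrSyz.stdGr k (Fin 3) (0 - F.deg 0 b) := (decompose _ _ _).2
    rw [Groth.Agent.Lib.Helper6.HilbDim.stdGr_neg k (Fin 3) _ (by omega)] at hmem
    have h3 := (Submodule.mem_bot k).mp hmem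
    apply hπ1
    have h4 : proj (Trans.toAG ℳ) 0 (π 1) = π 1 := proj_of_mem_same (Trans.toAG ℳ) hπ1mem
    rw [← h4, ← hv', h2, h3, zero_smul]

end Points

section Numeric

variable {M : Type u} [AddCommGroup M] [Module k M] [Module (MvPolynomial (Fin 3) k) M]
  [IsScalarTower k (MvPolynomial (Fin 3) k) M] [Module.Finite (MvPolynomial (Fin 3) k) M]
  (ℳ : ℤ → Submodule k M) [DirectSum.Decomposition ℳ]
  [SetLike.GradedSMul (GrSyz.stdGr k (Fin 3)) ℳ]
  (F : GrSyz.FreeRes (GrSyz.stdGr k (Fin 3)) ℳ)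

/-- a bounded Hilbert function forces the alternating sums of ranks and of degrees to vanish -/
theorem sum_deg_eq (hlen : F.HasLengthLE 2) (K : ℕ)
    (hK : ∀ m : ℕ, Module.finrank k (ℳ (m : ℤ)) ≤ K) :
    (F.rk 0 : ℤ) - F.rk 1 + F.rk 2 = 0 ∧
      ∑ b, F.deg 0 b - ∑ b, F.deg 1 b + ∑ b, F.deg 2 b = 0 := by
  obtain ⟨D₀, hD0, hD⟩ : ∃ D₀ : ℤ, 0 ≤ D₀ ∧ ∀ i : ℕ, i ≤ 2 → ∀ b : Fin (F.rk i), F.deg i b ≤ D₀ := by
    refine ⟨∑ i ∈ Finset.range 3, ∑ b : Fin (F.rk i), |F.deg i b|, ?_, ?_⟩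
    · exact Finset.sum_nonneg (fun _ _ => Finset.sum_nonneg (fun _ _ => abs_nonneg _))
    · intro i hi b
      have h1 : |F.deg i b| ≤ ∑ b : Fin (F.rk i), |F.deg i b| :=
        Finset.single_le_sum (f := fun b => |F.deg i b|) (fun _ _ => abs_nonneg _)
          (Finset.mem_univ b)
      have h2 : ∑ b : Fin (F.rk i), |F.deg i b| ≤
          ∑ i ∈ Finset.range 3, ∑ b : Fin (F.rk i), |F.deg i b| :=
        Finset.single_le_sum (f := fun i => ∑ b : Fin (F.rk i), |F.deg i b|)
          (fun _ _ => Finset.sum_nonneg (fun _ _ => abs_nonneg _))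
          (Finset.mem_range.mpr (by omega))
      exact le_trans (le_abs_self _) (le_trans h1 h2)
  have hterm : ∀ (i : ℕ), i ≤ 2 → ∀ d : ℤ, D₀ ≤ d →
      2 * ∑ b : Fin (F.rk i), (if F.deg i b ≤ d then
          ((Nat.choose (2 + (d - F.deg i b).toNat) 2 : ℕ) : ℤ) else 0)
        = (F.rk i : ℤ) * d * d + (3 * (F.rk i : ℤ) - 2 * ∑ b, F.deg i b) * d
          + ∑ b, (F.deg i b * F.deg i b - 3 * F.deg i b + 2) := by
    intro i hi d hd
    rw [Finset.mul_sum]
    have := sum_quad (fun b => F.deg i b) d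
    rw [Fintype.card_fin] at this
    rw [← this]
    apply Finset.sum_congr rfl
    intro b _
    have hb : F.deg i b ≤ d := le_trans (hD i hi b) hd
    rw [if_pos hb]
    exact two_mul_choose (d - F.deg i b) (by omega)
  have key : ∀ d : ℤ, D₀ ≤ d → 2 * (Module.finrank k (ℳ d) : ℤ) =
      ((F.rk 0 : ℤ) - F.rk 1 + F.rk 2) * d * d
      + ((3 * (F.rk 0 : ℤ) - 2 * ∑ b, F.deg 0 b) - (3 * (F.rk 1 : ℤ) - 2 * ∑ b, F.deg 1 b)
          + (3 * (F.rk 2 : ℤ) - 2 * ∑ b, F.deg 2 b)) * d
      + (∑ b, (F.deg 0 b * F.deg 0 b - 3 * F.deg 0 b + 2)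
          - ∑ b, (F.deg 1 b * F.deg 1 b - 3 * F.deg 1 b + 2)
          + ∑ b, (F.deg 2 b * F.deg 2 b - 3 * F.deg 2 b + 2)) := by
    intro d hd
    rw [Groth.Agent.S15428.result k 2 M ℳ F 2 hlen d]
    rw [Finset.sum_range_succ, Finset.sum_range_succ, Finset.sum_range_one]
    have e0 := hterm 0 (by norm_num) d hd
    have e1 := hterm 1 (by norm_num) d hd
    have e2 := hterm 2 (by norm_num) d hd
    linear_combination e0 - e1 + e2
  obtain ⟨hA, hB⟩ := quad_bounded _ _ _ D₀ (2 * K) (fun d hd => by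
    rw [← key d hd]
    constructor
    · positivity
    · have h1 := hK d.toNat
      have h2 : ((d.toNat : ℕ) : ℤ) = d := Int.toNat_of_nonneg (by omega)
      rw [h2] at h1
      have h3 : (Module.finrank k (ℳ d) : ℤ) ≤ K := by exact_mod_cast h1
      linarith)
  refine ⟨hA, ?_⟩
  linarith

end Numeric

end Groth.Agent.Lib.Helper6.HBurch
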